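import Groth.Agent.EtaleAlgebra.IdealSheafDescent
import Groth.Agent.Divisors.IdealComap
import Mathlib.LinearAlgebra.TensorProduct.Pi
import Mathlib.CategoryTheory.Subobject.Basic

/-!
# Descent of closed subschemes along flat quasi-compact surjective morphisms
-/

universe u

open CategoryTheory CategoryTheory.Limits AlgebraicGeometry TensorProduct TopologicalSpace

namespace Groth.SubDescent

section Alg

/-- If `b ⊗ 1` dies in every `C ⊗ (B i ⧸ I i)`, then `b` lies in the extension of the contraction. -/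
lemma mem_map_iInf_comap {A C : Type u} [CommRing A] [CommRing C] [Algebra A C] [Module.Flat A C]
    {ι : Type*} [Finite ι] (B : ι → Type u) [∀ i, CommRing (B i)] [∀ i, Algebra A (B i)]
    (I : ∀ i, Ideal (B i)) (b : C)
    (hb : ∀ i, b ⊗ₜ[A] (1 : B i ⧸ I i) = 0) :
    b ∈ (⨅ i, (I i).comap (algebraMap A (B i))).map (algebraMap A C) := by
  classical
  have : Fintype ι := Fintype.ofFinite ι
  set J : Ideal A := ⨅ i, (I i).comap (algebraMap A (B i))
  let μ : A →ₗ[A] (i : ι) → B i ⧸ I i := LinearMap.pi fun i => Algebra.linearMap A (B i ⧸ I i)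
  have hker : LinearMap.ker μ = J := by
    ext a
    simp only [μ, J, LinearMap.mem_ker, LinearMap.pi_apply, funext_iff, Ideal.mem_iInf,
      Algebra.linearMap_apply, Ideal.mem_comap, Pi.zero_apply]
    exact forall_congr' fun i => Ideal.Quotient.eq_zero_iff_mem
  let g : A ⧸ J →ₗ[A] (i : ι) → B i ⧸ I i := Submodule.liftQ J μ hker.ge
  have hg : Function.Injective g := LinearMap.ker_eq_bot.mp (by simp [g, Submodule.ker_liftQ_eq_bot', hker])
  have hone : g (1 : A ⧸ J) = fun i => (1 : B i ⧸ I i) := funext fun i => map_one (algebraMap A _)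
  have h1 : b ⊗ₜ[A] (1 : A ⧸ J) = 0 := by
    refine Module.Flat.lTensor_preserves_injective_linearMap (M := C) g hg ?_
    apply (TensorProduct.piRight A A C fun i => B i ⧸ I i).injective
    rw [map_zero, map_zero, LinearMap.lTensor_tmul, hone, TensorProduct.piRight_apply]
    funext i
    simp [hb i]
  let K := J.map (algebraMap A C)
  let f₁ : C →ₐ[A] C ⧸ K := Ideal.Quotient.mkₐ A K
  let f₂ : A ⧸ J →ₐ[A] C ⧸ K := Ideal.Quotient.liftₐ J (Algebra.ofId A (C ⧸ K)) fun a ha => by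
    show algebraMap A (C ⧸ K) a = 0
    rw [IsScalarTower.algebraMap_apply A C (C ⧸ K)]
    exact Ideal.Quotient.eq_zero_iff_mem.mpr (Ideal.mem_map_of_mem _ ha)
  have h2 := congrArg (Algebra.TensorProduct.lift f₁ f₂ fun _ _ => Commute.all _ _) h1
  simp only [Algebra.TensorProduct.lift_tmul, map_one, mul_one, map_zero] at h2
  exact Ideal.Quotient.eq_zero_iff_mem.mp h2

end Alg

variable {X X' : Scheme.{u}}

lemma SpecMap_fromSpec_appLE {V : X.Opens} (hV : IsAffineOpen V) {R : CommRingCat.{u}}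
    (φ : Γ(X, V) ⟶ R) (e : ⊤ ≤ (Spec.map φ ≫ hV.fromSpec) ⁻¹ᵁ V) :
    (Spec.map φ ≫ hV.fromSpec).appLE V ⊤ e = φ ≫ (Scheme.ΓSpecIso R).inv := by
  rw [Scheme.Hom.comp_appLE, IsAffineOpen.fromSpec_app_self, Category.assoc, Scheme.Hom.map_appLE]
  have h : (Spec.map φ).appLE ⊤ ⊤ (show ⊤ ≤ Spec.map φ ⁻¹ᵁ ⊤ from le_rfl) = (Spec.map φ).appTop :=
    (Spec.map φ).appLE_eq_app
  exact (congrArg ((Scheme.ΓSpecIso _).inv ≫ ·) h).trans (Scheme.ΓSpecIso_inv_naturality φ).symm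

/-- The preimage of an affine open is covered by finitely many affines, which detect the image. -/
lemma exists_finite_affine_cover (π : X ⟶ X') [QuasiCompact π] (U : X'.affineOpens) :
    ∃ (s : Finset X.affineOpens) (hs : ∀ W ∈ s, W.1 ≤ π ⁻¹ᵁ U.1),
      ∀ (I : X.IdealSheafData) (r : Γ(X', U.1)),
        (∀ (W : X.affineOpens) (hW : W ∈ s), π.appLE U.1 W.1 (hs W hW) r ∈ I.ideal W) →
        r ∈ (I.map π).ideal U := by
  classical
  choose W hW hxW hWU using fun x : {x : X // x ∈ π ⁻¹ᵁ U.1} =>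
    exists_isAffineOpen_mem_and_subset (x := x.1) (U := π ⁻¹ᵁ U.1) x.2
  obtain ⟨t, ht⟩ := (π.isCompact_preimage U.2.isCompact).elim_finite_subcover
    (fun x => (W x : Set X)) (fun x => (W x).isOpen)
    fun x hx => Set.mem_iUnion.mpr ⟨⟨x, hx⟩, hxW _⟩
  refine ⟨t.image fun x => ⟨W x, hW x⟩, ?_, fun I r hr => ?_⟩
  · intro V hV
    obtain ⟨x, -, rfl⟩ := Finset.mem_image.mp hV
    exact hWU x
  rw [Scheme.IdealSheafData.map, Scheme.Hom.ker_apply, RingHom.mem_ker, Scheme.Hom.comp_app]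
  refine I.subscheme.sheaf.eq_of_locally_eq' (fun x : t => I.subschemeι ⁻¹ᵁ W x.1) _
    (fun x => homOfLE (I.subschemeι.preimage_mono (hWU x.1))) ?_ _ _ ?_
  · intro z hz
    have hz' := ht (show I.subschemeι z ∈ (π ⁻¹ᵁ U.1 : Set X) from hz)
    simp only [Set.mem_iUnion] at hz'
    obtain ⟨x, hx, hzx⟩ := hz'
    exact Opens.mem_iSup.mpr ⟨⟨x, hx⟩, hzx⟩
  · intro x
    show (I.subscheme.presheaf.map (homOfLE (I.subschemeι.preimage_mono (hWU x.1))).op) _ =
      (I.subscheme.presheaf.map (homOfLE (I.subschemeι.preimage_mono (hWU x.1))).op) 0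
    rw [map_zero]
    have h := hr ⟨W x.1, hW x.1⟩ (Finset.mem_image_of_mem _ x.2)
    rw [← I.ker_subschemeι_app, RingHom.mem_ker] at h
    rw [← h]
    show ConcreteCategory.hom (I.subscheme.presheaf.map _) (ConcreteCategory.hom
        (I.subschemeι.app (π ⁻¹ᵁ U.1)) (π.app U.1 r)) =
      ConcreteCategory.hom (I.subschemeι.app (W x.1)) (ConcreteCategory.hom
        (X.presheaf.map (homOfLE (hWU x.1)).op) (π.app U.1 r))
    exact (ConcreteCategory.congr_hom (I.subschemeι.naturality (homOfLE (hWU x.1)).op) _).symm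

/-- Stability makes sections of the ideal die on the overlaps. -/
lemma tmul_one_eq_zero (π : X ⟶ X') (I : X.IdealSheafData)
    (hI : I.comap (pullback.fst π π) = I.comap (pullback.snd π π))
    (U : X'.affineOpens) (V W : X.affineOpens) (hV : V.1 ≤ π ⁻¹ᵁ U.1) (hW : W.1 ≤ π ⁻¹ᵁ U.1)
    {b : Γ(X, V.1)} (hb : b ∈ I.ideal V) :
    letI := (π.appLE U.1 V.1 hV).hom.toAlgebra
    letI := (π.appLE U.1 W.1 hW).hom.toAlgebra
    b ⊗ₜ[Γ(X', U.1)] (1 : Γ(X, W.1) ⧸ I.ideal W) = 0 := by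
  let := (π.appLE U.1 V.1 hV).hom.toAlgebra
  let := (π.appLE U.1 W.1 hW).hom.toAlgebra
  let R := CommRingCat.of (Γ(X, V.1) ⊗[Γ(X', U.1)] Γ(X, W.1))
  let φ₁ : Γ(X, V.1) ⟶ R := CommRingCat.ofHom Algebra.TensorProduct.includeLeftRingHom
  let φ₂ : Γ(X, W.1) ⟶ R := CommRingCat.ofHom Algebra.TensorProduct.includeRight.toRingHom
  have hφ : π.appLE U.1 V.1 hV ≫ φ₁ = π.appLE U.1 W.1 hW ≫ φ₂ := by
    ext a
    exact Algebra.TensorProduct.tmul_one_eq_one_tmul a
  have w : (Spec.map φ₁ ≫ V.2.fromSpec) ≫ π = (Spec.map φ₂ ≫ W.2.fromSpec) ≫ π := by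
    rw [Category.assoc, Category.assoc, ← IsAffineOpen.SpecMap_appLE_fromSpec π U.2 V.2 hV,
      ← IsAffineOpen.SpecMap_appLE_fromSpec π U.2 W.2 hW, ← Spec.map_comp_assoc, hφ,
      Spec.map_comp_assoc]
  have h := congrArg (Scheme.IdealSheafData.comap · (pullback.lift _ _ w)) hI
  simp only [← Scheme.IdealSheafData.comap_comp, pullback.lift_fst, pullback.lift_snd] at h
  have h' := congrArg (fun J : (Spec R).IdealSheafData => J.ideal ⟨⊤, isAffineOpen_top _⟩) h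
  have e₁ : ⊤ ≤ (Spec.map φ₁ ≫ V.2.fromSpec) ⁻¹ᵁ V.1 := fun x _ =>
    V.2.range_fromSpec.le ⟨Spec.map φ₁ x, rfl⟩
  have e₂ : ⊤ ≤ (Spec.map φ₂ ≫ W.2.fromSpec) ⁻¹ᵁ W.1 := fun x _ =>
    W.2.range_fromSpec.le ⟨Spec.map φ₂ x, rfl⟩
  simp only at h'
  rw [Groth.Divisors.ideal_comap_affine _ _ V ⟨⊤, isAffineOpen_top _⟩ e₁,
    Groth.Divisors.ideal_comap_affine _ _ W ⟨⊤, isAffineOpen_top _⟩ e₂,
    SpecMap_fromSpec_appLE, SpecMap_fromSpec_appLE, CommRingCat.hom_comp, CommRingCat.hom_comp,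
    ← Ideal.map_map, ← Ideal.map_map] at h'
  have hmem : φ₁ b ∈ (I.ideal W).map φ₂.hom := by
    have h1 := Ideal.mem_map_of_mem (Scheme.ΓSpecIso R).inv.hom (Ideal.mem_map_of_mem φ₁.hom hb)
    rw [h', Ideal.mem_map_iff_of_surjective _
      (ConcreteCategory.bijective_of_isIso (Scheme.ΓSpecIso R).inv).2] at h1
    obtain ⟨y, hy, hyb⟩ := h1
    exact (ConcreteCategory.bijective_of_isIso (Scheme.ΓSpecIso R).inv).1 hyb ▸ hy
  let q := Algebra.TensorProduct.map (AlgHom.id Γ(X', U.1) Γ(X, V.1))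
    (Ideal.Quotient.mkₐ Γ(X', U.1) (I.ideal W))
  have hle : (I.ideal W).map φ₂.hom ≤ RingHom.ker q.toRingHom := Ideal.map_le_iff_le_comap.mpr
    fun y hy => by
      rw [Ideal.mem_comap, RingHom.mem_ker]
      show q (1 ⊗ₜ y) = 0
      simp [q, Ideal.Quotient.eq_zero_iff_mem.mpr hy]
  have := RingHom.mem_ker.mp (hle hmem)
  exact this

/-- Stable ideal sheaves descend along flat quasi-compact morphisms. -/
theorem comap_map_eq_of_stable (π : X ⟶ X') [Flat π] [QuasiCompact π] (I : X.IdealSheafData)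
    (hI : I.comap (pullback.fst π π) = I.comap (pullback.snd π π)) :
    (I.map π).comap π = I := by
  refine le_antisymm (Scheme.IdealSheafData.comap_map_le _ _) ?_
  refine Scheme.IdealSheafData.le_of_iSup_eq_top
    (U := fun p : {p : X'.affineOpens × X.affineOpens // p.2.1 ≤ π ⁻¹ᵁ p.1.1} => p.1.2) ?_ ?_
  · refine top_le_iff.mp fun x _ => ?_
    obtain ⟨U, hU, hxU, -⟩ := exists_isAffineOpen_mem_and_subset (x := π x) (U := ⊤) trivial
    obtain ⟨V, hV, hxV, hVU⟩ := exists_isAffineOpen_mem_and_subset (x := x) (U := π ⁻¹ᵁ U) hxU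
    exact Opens.mem_iSup.mpr ⟨⟨(⟨U, hU⟩, ⟨V, hV⟩), hVU⟩, hxV⟩
  rintro ⟨⟨U, V⟩, hVU⟩ b hb
  obtain ⟨s, hs, hWs⟩ := exists_finite_affine_cover π U
  let := (π.appLE U.1 V.1 hVU).hom.toAlgebra
  have : Module.Flat Γ(X', U.1) Γ(X, V.1) := π.flat_appLE U.2 V.2 hVU
  let B : s → Type u := fun W => Γ(X, W.1.1)
  let : ∀ W : s, Algebra Γ(X', U.1) (B W) := fun W =>
    (π.appLE U.1 W.1.1 (hs W.1 W.2)).hom.toAlgebra
  have hkey : ∀ W : s, b ⊗ₜ[Γ(X', U.1)] (1 : B W ⧸ I.ideal W.1) = 0 := fun W =>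
    tmul_one_eq_zero π I hI U V W.1 hVU (hs W.1 W.2) hb
  have h := mem_map_iInf_comap B (fun W => I.ideal W.1) b hkey
  show b ∈ ((I.map π).comap π).ideal V
  rw [Groth.Divisors.ideal_comap_affine _ π U V hVU]
  exact Ideal.map_mono (fun r hr => hWs I r fun W hW => (Ideal.mem_iInf.mp hr ⟨W, hW⟩)) h

end Groth.SubDescent
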